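import Mathlib
import Cfsg.Agent.Lib.SL2Mat
import Cfsg.Agent.ClassicalGeometry.PSL2Basic
import Cfsg.Agent.S0802
import Cfsg.Agent.PushGen.Red
import Cfsg.Agent.Mrg.Omega.SQ1.NodeI
set_option linter.all false

-- part: H282/PU/Sl
section
/-!
# `Z₃` and `SL₂(2ⁿ)`

The properties of these groups used for S3090.
-/

set_option autoImplicit false
set_option linter.unusedSectionVars false

namespace Cfsg.Agent.H282.PU

open Subgroup Cfsg.Agent.Lib.SL2Mat
open scoped Pointwise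

/-- `X` is simple, centralisers of involutions are elementary abelian, and every proper subgroup over a
Sylow 2-subgroup normalises it. -/
structure Good (X : Type*) [Group X] : Prop where
  simple : IsSimpleGroup X
  inv : ∀ a b : X, a * a = 1 → a ≠ 1 → a * b = b * a → b * b = 1
  max : ∀ (P : Sylow 2 X) (Y : Subgroup X), (P : Subgroup X) ≤ Y →
    ¬ Y ≤ normalizer ((P : Subgroup X) : Set X) → Y = ⊤
  dich : Nat.card X = 3 ∨ (2 ∣ Nat.card X ∧ ∃ a b : X, a * b ≠ b * a)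

theorem Good.congr {X Y : Type*} [Group X] [Group Y] [Finite X] (e : X ≃* Y) (h : Good Y) : Good X where
  simple := (MulEquiv.isSimpleGroup_congr e).2 h.simple
  inv a b ha hne hab := by
    apply e.injective
    rw [map_mul, map_one]
    apply h.inv (e a) (e b)
    · rw [← map_mul, ha, map_one]
    · exact fun h1 => hne (e.injective (by rw [h1, map_one]))
    · rw [← map_mul, hab, map_mul]
  max P Z hPZ hn := by
    have h1 := h.max (P.mapSurjective (f := e.toMonoidHom) e.surjective) (Z.map e.toMonoidHom)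
      (Subgroup.map_mono hPZ) ?_
    · rw [eq_top_iff]
      intro x _
      have hx : e x ∈ Z.map e.toMonoidHom := by rw [h1]; trivial
      obtain ⟨z, hz, hzx⟩ := hx
      rwa [← e.injective hzx]
    · intro hle
      apply hn
      intro z hz
      rw [mem_normalizer_iff]
      intro x
      have h2 := mem_normalizer_iff.1 (hle ⟨z, hz, rfl⟩) (e x)
      constructor
      · intro hx
        obtain ⟨y, hy, hyx⟩ := h2.1 ⟨x, hx, rfl⟩
        have : y = z * x * z⁻¹ := e.injective (by rw [map_mul, map_mul, map_inv]; exact hyx)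
        rwa [← this]
      · intro hx
        obtain ⟨y, hy, hyx⟩ := h2.2 ⟨z * x * z⁻¹, hx, by
          show e (z * x * z⁻¹) = e z * e x * (e z)⁻¹
          rw [map_mul, map_mul, map_inv]⟩
        have : y = x := e.injective hyx
        rwa [← this]
  dich := by
    rcases h.dich with h1 | ⟨h2, a, b, hab⟩
    · left; rw [Nat.card_congr e.toEquiv, h1]
    · right
      refine ⟨by rwa [Nat.card_congr e.toEquiv], e.symm a, e.symm b, fun h1 => hab ?_⟩
      have := congrArg e h1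
      simpa using this

theorem good_three {X : Type*} [Group X] (h : Nat.card X = 3) : Good X := by
  have hf : Finite X := Nat.finite_of_card_ne_zero (by omega)
  have hp : Fact (Nat.Prime 3) := ⟨Nat.prime_three⟩
  have hc : ∀ a b : X, a * b = b * a := by
    have := isCyclic_of_prime_card h
    intro a b
    exact (IsCyclic.commGroup (α := X)).mul_comm a b
  refine ⟨?_, ?_, ?_, Or.inl h⟩
  · have : Nontrivial X := Finite.one_lt_card_iff_nontrivial.1 (by omega)
    exact isSimpleGroup_of_prime_card h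
  · intro a b ha hne _
    exfalso
    apply hne
    have h1 : a ^ 3 = 1 := by rw [← h]; exact pow_card_eq_one'
    have h2 : a ^ 3 = a * a * a := by rw [pow_succ, pow_two]
    rw [h2, ha, one_mul] at h1
    exact h1
  · intro P Y _ hn
    exfalso
    apply hn
    intro y _
    rw [mem_normalizer_iff]
    intro x
    rw [hc y x, mul_inv_cancel_right]

section SL

variable {F : Type*} [Field F] [CharP F 2]

theorem two_zero : (2 : F) = 0 := by
  have := CharP.cast_eq_zero F 2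
  exact_mod_cast this

theorem sl_inv (a b : Matrix.SpecialLinearGroup (Fin 2) F) (ha : a * a = 1) (hne : a ≠ 1)
    (hab : a * b = b * a) : b * b = 1 := by
  have e00 := congrArg (fun x => ent x 0 0) ha
  have e01 := congrArg (fun x => ent x 0 1) ha
  have e10 := congrArg (fun x => ent x 1 0) ha
  have e11 := congrArg (fun x => ent x 1 1) ha
  have f00 := congrArg (fun x => ent x 0 0) hab
  have f01 := congrArg (fun x => ent x 0 1) hab
  have f10 := congrArg (fun x => ent x 1 0) hab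
  have f11 := congrArg (fun x => ent x 1 1) hab
  simp only [ent_mul, ent_one_00, ent_one_01, ent_one_10, ent_one_11] at e00 e01 e10 e11 f00 f01 f10 f11
  have da := det_eq a
  have db := det_eq b
  have h2 : (2 : F) = 0 := two_zero
  set p := ent a 0 0
  set q := ent a 0 1
  set r := ent a 1 0
  set t := ent a 1 1
  set x := ent b 0 0
  set y := ent b 0 1
  set z := ent b 1 0
  set w := ent b 1 1
  -- `p = t`
  have hpt : p = t := by
    by_contra hpt
    have hpt' : p + t ≠ 0 := by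
      intro h
      apply hpt
      linear_combination h - t * h2
    have hq : q = 0 := by
      have : q * (p + t) = 0 := by linear_combination e01
      exact (mul_eq_zero.1 this).resolve_right hpt'
    have hr : r = 0 := by
      have : r * (p + t) = 0 := by linear_combination e10
      exact (mul_eq_zero.1 this).resolve_right hpt'
    rw [hq, hr] at e00 e11
    have hp1 : (p + 1) * (p + 1) = 0 := by linear_combination e00 + (p + 1) * h2
    have ht1 : (t + 1) * (t + 1) = 0 := by linear_combination e11 + (t + 1) * h2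
    have hp2 := mul_self_eq_zero.1 hp1
    have ht2 := mul_self_eq_zero.1 ht1
    apply hpt
    linear_combination hp2 - ht2
  have hqr : q ≠ 0 ∨ r ≠ 0 := by
    by_contra hcon
    push Not at hcon
    obtain ⟨hq, hr⟩ := hcon
    apply hne
    rw [hq, hr] at e00
    have hp1 : (p + 1) * (p + 1) = 0 := by linear_combination e00 + (p + 1) * h2
    have hp2 := mul_self_eq_zero.1 hp1
    have hp3 : p = 1 := by linear_combination hp2 - h2
    refine ext_ent ?_ ?_ ?_ ?_
    · exact hp3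
    · exact hq
    · exact hr
    · exact hpt.symm.trans hp3
  have hxw : x = w := by
    rcases hqr with h | h
    · have : q * (w - x) = 0 := by
        rw [← hpt] at f01
        linear_combination f01
      have := (mul_eq_zero.1 this).resolve_left h
      linear_combination -this
    · have : r * (x - w) = 0 := by
        rw [← hpt] at f10
        linear_combination f10
      have := (mul_eq_zero.1 this).resolve_left h
      linear_combination this
  refine ext_ent ?_ ?_ ?_ ?_ <;>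
    simp only [ent_mul, ent_one_00, ent_one_01, ent_one_10, ent_one_11]
  · show x * x + y * z = 1
    rw [← hxw] at db
    linear_combination db + y * z * h2
  · show x * y + y * w = 0
    rw [← hxw]
    linear_combination x * y * h2
  · show z * x + w * z = 0
    rw [← hxw]
    linear_combination x * z * h2
  · show z * y + w * w = 1
    rw [← hxw] at db ⊢
    linear_combination db + y * z * h2

variable (F) in
/-- the upper unitriangular group -/
def U : Subgroup (Matrix.SpecialLinearGroup (Fin 2) F) where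
  carrier := Set.range up
  one_mem' := ⟨0, up_zero⟩
  mul_mem' := by
    rintro _ _ ⟨b, rfl⟩ ⟨c, rfl⟩
    exact ⟨b + c, (up_mul b c).symm⟩
  inv_mem' := by
    rintro _ ⟨b, rfl⟩
    exact ⟨-b, (up_inv b).symm⟩

theorem mem_U {x : Matrix.SpecialLinearGroup (Fin 2) F} : x ∈ U F ↔ ∃ b, up b = x := Iff.rfl

theorem isPGroup_U : IsPGroup 2 (U F) := by
  rintro ⟨_, b, rfl⟩
  refine ⟨1, Subtype.ext ?_⟩
  show (up b) ^ (2 ^ 1) = 1
  rw [pow_one, pow_two, up_mul]
  have h2 : (2 : F) = 0 := two_zero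
  have : b + b = 0 := by linear_combination b * h2
  rw [this, up_zero]

theorem card_U : Nat.card (U F) = Nat.card F := by
  have : Function.Bijective (fun b : F => (⟨up b, b, rfl⟩ : U F)) := by
    constructor
    · intro b c h
      exact up_inj (congrArg Subtype.val h)
    · rintro ⟨_, b, rfl⟩
      exact ⟨b, rfl⟩
  exact (Nat.card_congr (Equiv.ofBijective _ this)).symm

theorem index_U [Finite F] : ¬ 2 ∣ (U F).index := by
  classical
  have hf : Fintype F := Fintype.ofFinite F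
  have h1 := (U F).card_mul_index
  rw [card_U, Cfsg.Agent.ClassicalGeometry.PSL2Basic.card_SL2, Nat.card_eq_fintype_card] at h1
  have h0 : 0 < Fintype.card F := Fintype.card_pos
  have h2 : (U F).index = Fintype.card F ^ 2 - 1 := Nat.eq_of_mul_eq_mul_left h0 h1
  obtain ⟨n, -, hn⟩ := FiniteField.card F 2
  have h3 : 2 ∣ Fintype.card F := by
    rw [hn]
    exact dvd_pow_self 2 n.2.ne'
  rw [h2]
  have h4 : 2 ∣ Fintype.card F ^ 2 := dvd_pow h3 two_ne_zero
  have h5 : 1 ≤ Fintype.card F ^ 2 := Nat.one_le_pow _ _ h0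
  omega

theorem U_max (Y : Subgroup (Matrix.SpecialLinearGroup (Fin 2) F)) (hU : U F ≤ Y)
    (hn : ¬ Y ≤ normalizer (U F : Set (Matrix.SpecialLinearGroup (Fin 2) F))) : Y = ⊤ := by
  obtain ⟨g, hg, hgn⟩ := SetLike.not_le_iff_exists.1 hn
  have hup : ∀ b : F, up b ∈ Y := fun b => hU ⟨b, rfl⟩
  have hc : ent g 1 0 ≠ 0 := by
    intro hc
    apply hgn
    -- `g` is upper triangular
    have hd := det_eq g
    rw [hc, mul_zero, sub_zero] at hd
    have key : ∀ (x : Matrix.SpecialLinearGroup (Fin 2) F) (hx : ent x 1 0 = 0) (b : F),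
        x * up b * x⁻¹ ∈ U F := by
      intro x hx b
      have hd := det_eq x
      rw [hx, mul_zero, sub_zero] at hd
      refine ⟨ent x 0 0 * ent x 0 0 * b, ?_⟩
      rw [eq_mul_inv_iff_mul_eq]
      refine ext_ent ?_ ?_ ?_ ?_ <;> simp only [ent_mul, up_00, up_01, up_10, up_11, hx]
      · ring
      · linear_combination (ent x 0 0 * b) * hd
      · ring
      · ring
    rw [mem_normalizer_iff]
    intro x
    constructor
    · rintro ⟨b, rfl⟩
      exact key g hc b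
    · rintro ⟨b, hb⟩
      have hgi : ent g⁻¹ 1 0 = 0 := by
        rw [ent_inv, mk_10, hc, neg_zero]
      have h1 := key g⁻¹ hgi b
      rw [hb] at h1
      have e : g⁻¹ * (g * x * g⁻¹) * g⁻¹⁻¹ = x := by group
      rwa [e] at h1
  -- `lo c ∈ Y`
  have hlo : lo (ent g 1 0) ∈ Y := by
    have h1 := eq_up_lo_up g hc
    have h2 : lo (ent g 1 0) = (up ((ent g 0 0 - 1) / ent g 1 0))⁻¹ * g *
        (up ((ent g 1 1 - 1) / ent g 1 0))⁻¹ := by
      nth_rewrite 4 [h1]
      group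
    rw [h2]
    exact Y.mul_mem (Y.mul_mem (Y.inv_mem (hup _)) hg) (Y.inv_mem (hup _))
  set c := ent g 1 0 with hcd
  -- the Weyl element
  have hw : wm (-c⁻¹) (neg_ne_zero.2 (inv_ne_zero hc)) ∈ Y := by
    have h1 : wm (-c⁻¹) (neg_ne_zero.2 (inv_ne_zero hc)) = up (-c⁻¹) * lo c * up (-c⁻¹) := by
      refine ext_ent ?_ ?_ ?_ ?_ <;>
        simp only [ent_mul, up_00, up_01, up_10, up_11, lo_00, lo_01, lo_10, lo_11, wm_00, wm_01,
          wm_10, wm_11] <;> field_simp <;> ring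
    rw [h1]
    exact Y.mul_mem (Y.mul_mem (hup _) hlo) (hup _)
  have hlo' : ∀ b : F, lo b ∈ Y := by
    intro b
    have h1 := wm_up (-c⁻¹) (-(b * (-c⁻¹) ^ 2)) (neg_ne_zero.2 (inv_ne_zero hc))
    have h2 : -(-(b * (-c⁻¹) ^ 2) / (-c⁻¹) ^ 2) = b := by
      have : (-c⁻¹) ^ 2 ≠ 0 := pow_ne_zero _ (neg_ne_zero.2 (inv_ne_zero hc))
      field_simp
    rw [h2] at h1
    have h3 : lo b = wm (-c⁻¹) (neg_ne_zero.2 (inv_ne_zero hc)) * up (-(b * (-c⁻¹) ^ 2)) *
        (wm (-c⁻¹) (neg_ne_zero.2 (inv_ne_zero hc)))⁻¹ := by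
      rw [h1]; group
    rw [h3]
    exact Y.mul_mem (Y.mul_mem hw (hup _)) (Y.inv_mem hw)
  rw [eq_top_iff]
  intro x _
  obtain ⟨a, b, c', d, rfl⟩ := exists_up_lo x
  exact Y.mul_mem (Y.mul_mem (Y.mul_mem (hup _) (hlo' _)) (hup _)) (hlo' _)

theorem sl_max [Finite F] (P : Sylow 2 (Matrix.SpecialLinearGroup (Fin 2) F))
    (Y : Subgroup (Matrix.SpecialLinearGroup (Fin 2) F))
    (hPY : (P : Subgroup (Matrix.SpecialLinearGroup (Fin 2) F)) ≤ Y)
    (hn : ¬ Y ≤ normalizer ((P : Subgroup (Matrix.SpecialLinearGroup (Fin 2) F)) :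
      Set (Matrix.SpecialLinearGroup (Fin 2) F))) : Y = ⊤ := by
  classical
  have hp : Fact (Nat.Prime 2) := ⟨Nat.prime_two⟩
  have hfin : Finite (Matrix.SpecialLinearGroup (Fin 2) F) := by
    have hf : Fintype F := Fintype.ofFinite F
    infer_instance
  let P0 : Sylow 2 (Matrix.SpecialLinearGroup (Fin 2) F) := isPGroup_U.toSylow index_U
  obtain ⟨g, hg⟩ := MulAction.exists_smul_eq (Matrix.SpecialLinearGroup (Fin 2) F) P P0
  have hmem : ∀ x, x ∈ (P : Subgroup (Matrix.SpecialLinearGroup (Fin 2) F)) ↔ g * x * g⁻¹ ∈ U F := by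
    intro x
    have h1 : (U F : Subgroup (Matrix.SpecialLinearGroup (Fin 2) F)) =
        MulAut.conj g • (P : Subgroup (Matrix.SpecialLinearGroup (Fin 2) F)) := by
      have h0 : ((g • P : Sylow 2 (Matrix.SpecialLinearGroup (Fin 2) F)) :
        Subgroup (Matrix.SpecialLinearGroup (Fin 2) F)) = U F := by rw [hg]; rfl
      exact h0.symm
    rw [h1, Subgroup.mem_pointwise_smul_iff_inv_smul_mem]
    have : (MulAut.conj g)⁻¹ • (g * x * g⁻¹) = x := by
      rw [← map_inv, MulAut.smul_def, MulAut.conj_apply]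
      group
    rw [this]
  have h1 := U_max (Y.map (MulAut.conj g).toMonoidHom) ?_ ?_
  · rw [eq_top_iff]
    intro x _
    have hx : g * x * g⁻¹ ∈ Y.map (MulAut.conj g).toMonoidHom := by rw [h1]; trivial
    obtain ⟨y, hy, hyx⟩ := hx
    have : y = x := (MulAut.conj g).injective hyx
    rwa [← this]
  · intro u hu
    refine ⟨g⁻¹ * u * g, hPY ((hmem _).2 ?_), ?_⟩
    · have : g * (g⁻¹ * u * g) * g⁻¹ = u := by group
      rwa [this]
    · show g * (g⁻¹ * u * g) * g⁻¹ = u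
      group
  · intro hle
    apply hn
    intro y hy
    have h2 := hle ⟨y, hy, rfl⟩
    rw [mem_normalizer_iff] at h2 ⊢
    intro x
    have h3 := h2 (g * x * g⁻¹)
    rw [hmem, hmem]
    have e : (MulAut.conj g).toMonoidHom y * (g * x * g⁻¹) * ((MulAut.conj g).toMonoidHom y)⁻¹ =
        g * (y * x * y⁻¹) * g⁻¹ := by
      show g * y * g⁻¹ * (g * x * g⁻¹) * (g * y * g⁻¹)⁻¹ = _
      group
    rw [e] at h3
    exact h3

noncomputable def slEquiv [Finite F] : Matrix.SpecialLinearGroup (Fin 2) F ≃*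
    Matrix.ProjectiveSpecialLinearGroup (Fin 2) F :=
  letI : Fintype F := Fintype.ofFinite F
  ((QuotientGroup.quotientMulEquivOfEq (S0802.center_eq_bot (F := F))).trans
    QuotientGroup.quotientBot).symm

theorem sl_simple [Finite F] (h4 : 4 ≤ Nat.card F) :
    IsSimpleGroup (Matrix.SpecialLinearGroup (Fin 2) F) := by
  have h1 : IsSimpleGroup (Matrix.ProjectiveSpecialLinearGroup (Fin 2) F) :=
    Matrix.ProjectiveSpecialLinearGroup.rank_two_simple (by omega)
  exact (MulEquiv.isSimpleGroup_congr slEquiv).2 h1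

theorem good_sl [Finite F] (h4 : 4 ≤ Nat.card F) : Good (Matrix.SpecialLinearGroup (Fin 2) F) := by
  refine ⟨sl_simple h4, sl_inv, sl_max, Or.inr ⟨?_, up 1, lo 1, fun h => ?_⟩⟩
  · have h1 : Nat.card F ∣ Nat.card (Matrix.SpecialLinearGroup (Fin 2) F) := by
      rw [← card_U]; exact Subgroup.card_subgroup_dvd_card _
    refine dvd_trans ?_ h1
    classical
    have hf : Fintype F := Fintype.ofFinite F
    obtain ⟨n, -, hn⟩ := FiniteField.card F 2
    rw [Nat.card_eq_fintype_card, hn]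
    exact dvd_pow_self 2 n.2.ne'
  have := congrArg (fun x => ent x 0 0) h
  simp only [ent_mul, up_00, up_01, up_10, lo_00, lo_01, lo_10] at this
  have h1 : (1 : F) = 0 := by linear_combination this
  exact one_ne_zero h1

end SL

end Cfsg.Agent.H282.PU
end

-- part: H282/PU/Ctx
section
/-!
# S3090: the groups `K T`

`Ctx K M Q T`: `K = O²(K)`, `M = N(K)`, `Q = O₂(K T)`, `K / O₂(K)` is `Z₃` or `SL₂(2ⁿ)`, `T` is a 2-subgroup of `M`
over a Sylow 2-subgroup of `K Q`.
-/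

set_option autoImplicit false
set_option linter.unusedSectionVars false

namespace Cfsg.Agent.H282.PU

open Subgroup Cfsg Cfsg.Agent.PLocal.ThompsonJ Cfsg.Agent.ZN.ChoiceBase
open Cfsg.Agent.ZN (o2 zl zj jj bau zc)
open Cfsg.Agent.ZN.ChoiceSit
open Cfsg.Agent.Omega.SQ1.FFOne (mem_norm_of conj_mem_of_norm)
open Cfsg.Agent.MinSimple.VModule (oddGen mem_oddGen oddGen_le le_normalizer_oddGen)
open Cfsg.Agent.MinSimple.MinParabolic (IsMinPar)
open scoped Pointwise

universe u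

variable {G : Type u} [Group G] [Finite G]

structure Ctx (K M Q T : Subgroup G) : Prop where
  c2 : IsCharacteristicTwoType G
  eM : M = normalizer (K : Set G)
  gen : oddGen K = K
  good : Good (↥K ⧸ pCore 2 ↥K)
  two : IsPGroup 2 T
  QT : Q ≤ T
  TM : T ≤ M
  KQ : K ≤ normalizer (Q : Set G)
  tr : ∀ q ∈ Q, ∀ k ∈ K, q * k * q⁻¹ * k⁻¹ ∈ o2 K
  syl : ∀ S : Subgroup G, IsPGroup 2 S → Q ≤ S → S ≤ M →
    (∀ s ∈ S, ∀ k ∈ K, s * k * s⁻¹ * k⁻¹ ∈ o2 K) → S = Q
  OQ : o2 K ≤ Q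
  sylK : Syl (T ⊓ K) K
  loc : ∀ R : Subgroup G, IsPGroup 2 R → R ≠ ⊥ → K ≤ normalizer (R : Set G) →
    T ≤ normalizer (R : Set G) → normalizer (R : Set G) ≤ M
  cQ : centralizer (Q : Set G) ≤ Q
  Q1 : Q ≠ ⊥

namespace Ctx

variable {K M Q T : Subgroup G}

theorem mono (c : Ctx K M Q T) {T' : Subgroup G} (h : T ≤ T') (h2 : IsPGroup 2 T') (hM : T' ≤ M) :
    Ctx K M Q T' :=
  { c with
    two := h2
    QT := c.QT.trans h
    TM := hM
    sylK := by
      refine ⟨inf_le_right, h2.to_le inf_le_left, fun P hP hP2 hTP => ?_⟩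
      have h1 := c.sylK.2.2 P hP hP2 ((inf_le_inf_right _ h).trans hTP)
      exact le_antisymm (by rw [h1]; exact inf_le_inf_right _ h) hTP
    loc := fun R hR hR1 hK hT => c.loc R hR hR1 hK (h.trans hT) }

variable (c : Ctx K M Q T)

include c

theorem KM : K ≤ M := by rw [c.eM]; exact le_normalizer

theorem MK {x k : G} (hx : x ∈ M) (hk : k ∈ K) : x * k * x⁻¹ ∈ K := by
  rw [c.eM] at hx
  exact (mem_normalizer_iff.1 hx k).1 hk

theorem MO {x k : G} (hx : x ∈ M) (hk : k ∈ o2 K) : x * k * x⁻¹ ∈ o2 K := by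
  have h1 : M ≤ normalizer ((o2 K : Subgroup G) : Set G) := by
    rw [c.eM]
    exact normalizer_le_of_cj (F := fun K => o2 K) pCore_cj K
  exact conj_mem_of_norm (h1 hx) hk

/-- the elements of `M` acting trivially on `K / O₂(K)` -/
def Cc (c : Ctx K M Q T) : Subgroup G where
  carrier := {x | x ∈ M ∧ ∀ k ∈ K, x * k * x⁻¹ * k⁻¹ ∈ o2 K}
  one_mem' := ⟨M.one_mem, fun k _ => by simp [one_mem]⟩
  mul_mem' := by
    rintro x y ⟨hx, hx'⟩ ⟨hy, hy'⟩
    refine ⟨M.mul_mem hx hy, fun k hk => ?_⟩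
    have h1 := mul_mem (c.MO hx (hy' k hk)) (hx' k hk)
    have e : x * (y * k * y⁻¹ * k⁻¹) * x⁻¹ * (x * k * x⁻¹ * k⁻¹) = x * y * k * (x * y)⁻¹ * k⁻¹ := by
      group
    rwa [e] at h1
  inv_mem' := by
    rintro x ⟨hx, hx'⟩
    refine ⟨M.inv_mem hx, fun k hk => ?_⟩
    have h1 := c.MO (M.inv_mem hx) (inv_mem (hx' k hk))
    have e : x⁻¹ * (x * k * x⁻¹ * k⁻¹)⁻¹ * x⁻¹⁻¹ = x⁻¹ * k * x⁻¹⁻¹ * k⁻¹ := by group
    rwa [e] at h1

theorem mem_Cc {x : G} : x ∈ c.Cc ↔ x ∈ M ∧ ∀ k ∈ K, x * k * x⁻¹ * k⁻¹ ∈ o2 K := Iff.rfl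

theorem Cc_norm {x y : G} (hx : x ∈ M) (hy : y ∈ c.Cc) : x * y * x⁻¹ ∈ c.Cc := by
  refine ⟨M.mul_mem (M.mul_mem hx hy.1) (M.inv_mem hx), fun k hk => ?_⟩
  have h1 := c.MK (M.inv_mem hx) hk
  rw [inv_inv] at h1
  have h2 := c.MO hx (hy.2 _ h1)
  have e : x * (y * (x⁻¹ * k * x) * y⁻¹ * (x⁻¹ * k * x)⁻¹) * x⁻¹ =
    x * y * x⁻¹ * k * (x * y * x⁻¹)⁻¹ * k⁻¹ := by group
  rwa [e] at h2

theorem Q_le_Cc : Q ≤ c.Cc := fun q hq => ⟨c.TM (c.QT hq), c.tr q hq⟩

theorem inf_Cc {P : Subgroup G} (hP : IsPGroup 2 P) (hQP : Q ≤ P) : P ⊓ c.Cc = Q :=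
  c.syl _ (hP.to_le inf_le_left) (le_inf hQP c.Q_le_Cc) (fun _ hx => hx.2.1) (fun _ hx => hx.2.2)

theorem norm_Q {P : Subgroup G} (hP : IsPGroup 2 P) (hQP : Q ≤ P) (hPM : P ≤ M) :
    P ≤ normalizer (Q : Set G) := by
  intro x hx
  refine mem_norm_of fun q hq => ?_
  rw [← c.inf_Cc hP hQP] at hq ⊢
  exact ⟨P.mul_mem (P.mul_mem hx hq.1) (P.inv_mem hx), c.Cc_norm (hPM hx) hq.2⟩

theorem TQ : T ≤ normalizer (Q : Set G) := c.norm_Q c.two c.QT c.TM

theorem HQ : K ⊔ T ≤ normalizer (Q : Set G) := sup_le c.KQ c.TQ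

theorem HM : K ⊔ T ≤ M := sup_le c.KM c.TM

theorem Q2 : IsPGroup 2 Q := c.two.to_le c.QT

theorem o2_eq : o2 (K ⊔ T) = Q := by
  have h1 : Q ≤ o2 (K ⊔ T) := le_o2 c.Q2 (c.QT.trans le_sup_right) c.HQ
  refine c.syl _ (isPGroup_o2 _) h1 ((o2_le _).trans c.HM) ?_
  intro s hs k hk
  have h2 : o2 (K ⊔ T) ⊓ K ≤ o2 K := by
    refine le_o2 ((isPGroup_o2 _).to_le inf_le_left) inf_le_right fun x hx => mem_norm_of ?_
    rintro y ⟨hy, hyK⟩
    exact ⟨conj_mem_of_norm (le_normalizer_o2 _ ((le_sup_left : K ≤ K ⊔ T) hx)) hy,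
      K.mul_mem (K.mul_mem hx hyK) (K.inv_mem hx)⟩
  apply h2
  refine ⟨?_, K.mul_mem (c.MK (c.HM (o2_le _ hs)) hk) (K.inv_mem hk)⟩
  have h3 := mul_mem hs (conj_mem_of_norm (le_normalizer_o2 _ ((le_sup_left : K ≤ K ⊔ T) hk))
    (inv_mem hs))
  have e : s * (k * s⁻¹ * k⁻¹) = s * k * s⁻¹ * k⁻¹ := by group
  rwa [e] at h3

theorem exists_mul {x : G} (hx : x ∈ K ⊔ T) : ∃ k ∈ K, ∃ t ∈ T, x = k * t := by
  have hle : T ≤ normalizer (K : Set G) := by rw [← c.eM]; exact c.TM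
  have h1 : x ∈ (K : Set G) * (T : Set G) := by
    rw [← Subgroup.coe_mul_of_right_le_normalizer_left _ _ hle]; exact hx
  obtain ⟨k, hk, t, ht, rfl⟩ := Set.mem_mul.1 h1
  exact ⟨k, hk, t, ht, rfl⟩

theorem sylH : Syl T (K ⊔ T) := by
  refine ⟨le_sup_right, c.two, fun P hP hP2 hTP => le_antisymm (fun p hp => ?_) hTP⟩
  obtain ⟨k, hk, t, ht, rfl⟩ := c.exists_mul (hP hp)
  have h1 : k ∈ P ⊓ K := by
    refine ⟨?_, hk⟩
    have := P.mul_mem hp (P.inv_mem (hTP ht))
    rwa [mul_inv_cancel_right] at this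
  rw [c.sylK.2.2 (P ⊓ K) inf_le_right (hP2.to_le inf_le_left) (inf_le_inf_right _ hTP)] at h1
  exact T.mul_mem h1.1 ht

theorem pow_mem {k t : G} (hk : k ∈ K) (ht : t ∈ T) (n : ℕ) : ∃ k' ∈ K, (k * t) ^ n = k' * t ^ n := by
  induction n with
  | zero => exact ⟨1, K.one_mem, by simp⟩
  | succ n ih =>
    obtain ⟨k', hk', h⟩ := ih
    refine ⟨k' * (t ^ n * k * (t ^ n)⁻¹), K.mul_mem hk' (c.MK (c.TM (T.pow_mem ht n)) hk), ?_⟩
    rw [pow_succ, h, pow_succ]
    group

theorem odd_mem {x : G} (hx : x ∈ K ⊔ T) (ho : Odd (orderOf x)) : x ∈ K := by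
  obtain ⟨k, hk, t, ht, rfl⟩ := c.exists_mul hx
  obtain ⟨n, hn⟩ := c.two ⟨t, ht⟩
  have hn' : t ^ 2 ^ n = 1 := by simpa using congrArg Subtype.val hn
  obtain ⟨k', hk', h⟩ := c.pow_mem hk ht (2 ^ n)
  rw [hn', mul_one] at h
  have h1 : (k * t) ^ 2 ^ n ∈ K := by rw [h]; exact hk'
  have h2 : Nat.Coprime (2 ^ n) (orderOf (k * t)) := Nat.Coprime.pow_left _ (Nat.coprime_two_left.2 ho)
  obtain ⟨m, hm⟩ := exists_pow_eq_self_of_coprime h2
  rw [← hm]
  exact K.pow_mem h1 m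

theorem oddGen_eq : oddGen (K ⊔ T) = K := by
  apply le_antisymm
  · rw [Cfsg.Agent.MinSimple.VModule.oddGen_def, closure_le]
    rintro x ⟨hx, ho⟩
    exact c.odd_mem hx ho
  · conv_lhs => rw [← c.gen]
    rw [Cfsg.Agent.MinSimple.VModule.oddGen_def, closure_le]
    rintro x ⟨hx, ho⟩
    exact mem_oddGen ((le_sup_left : K ≤ K ⊔ T) hx) ho

theorem norm_T_of_eq (h : T = Q) : normalizer (T : Set G) ≤ M := by
  rw [h]
  exact c.loc Q c.Q2 c.Q1 c.KQ c.TQ

/-! ### The quotient -/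

theorem OT : o2 K ≤ T ⊓ K := le_inf (c.OQ.trans c.QT) (o2_le K)

theorem mem_pCore {x : G} (hx : x ∈ K) : (⟨x, hx⟩ : K) ∈ pCore 2 ↥K ↔ x ∈ o2 K := by
  constructor
  · intro h; exact ⟨⟨x, hx⟩, h, rfl⟩
  · rintro ⟨y, hy, hyx⟩
    have : y = ⟨x, hx⟩ := Subtype.ext hyx
    rwa [← this]

/-- proper subgroups of `K` over `T ∩ K` normalise `T ∩ K` -/
theorem max_K {Y : Subgroup G} (hTY : T ⊓ K ≤ Y) (hYK : Y ≤ K) (hne : Y ≠ K) :
    Y ≤ normalizer ((T ⊓ K : Subgroup G) : Set G) := by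
  have hp : Fact (Nat.Prime 2) := ⟨Nat.prime_two⟩
  obtain ⟨P, hP⟩ := syl_iff.1 c.sylK
  set π := QuotientGroup.mk' (pCore 2 ↥K) with hπ
  have hπs : Function.Surjective π := QuotientGroup.mk'_surjective _
  have hker : ∀ {x y : K}, π x = π y → x⁻¹ * y ∈ pCore 2 ↥K := fun h => QuotientGroup.eq.1 h
  have hPm : ∀ x : K, x ∈ (P : Subgroup K) ↔ (x : G) ∈ T ⊓ K := by
    intro x
    rw [← hP]
    constructor
    · intro hx; exact ⟨x, hx, rfl⟩
    · rintro ⟨y, hy, hyx⟩
      have : y = x := Subtype.ext hyx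
      rwa [← this]
  have hPπ : ∀ x : K, π x ∈ (P : Subgroup K).map π → x ∈ (P : Subgroup K) := by
    rintro x ⟨y, hy, hyx⟩
    have h1 := hker hyx
    have h2 : ((y⁻¹ * x : K) : G) ∈ T ⊓ K := c.OT ((c.mem_pCore (y⁻¹ * x).2).1 h1)
    have h3 := (P : Subgroup K).mul_mem hy ((hPm _).2 h2)
    rwa [mul_inv_cancel_left] at h3
  by_contra hn
  apply hne
  have h1 := c.good.max (P.mapSurjective (f := π) hπs) ((Y.subgroupOf K).map π) ?_ ?_
  · apply le_antisymm hYK
    intro k hk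
    have h2 : π ⟨k, hk⟩ ∈ (Y.subgroupOf K).map π := by rw [h1]; trivial
    obtain ⟨y, hy, hyk⟩ := h2
    have h3 := hker hyk
    have h4 : ((y⁻¹ * ⟨k, hk⟩ : K) : G) ∈ Y := hTY (c.OT ((c.mem_pCore (y⁻¹ * ⟨k, hk⟩).2).1 h3))
    have h5 := Y.mul_mem (mem_subgroupOf.1 hy) h4
    have e : (y : G) * ((y⁻¹ * ⟨k, hk⟩ : K) : G) = k := by
      show (y : G) * ((y : G)⁻¹ * k) = k
      group
    rwa [e] at h5
  · rintro _ ⟨x, hx, rfl⟩
    exact ⟨x, mem_subgroupOf.2 (hTY ((hPm x).1 hx)), rfl⟩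
  · intro hle
    apply hn
    intro y hy
    refine mem_norm_of fun k hk => ?_
    have hy' := mem_normalizer_iff.1 (hle ⟨⟨y, hYK hy⟩, mem_subgroupOf.2 hy, rfl⟩) (π ⟨k, hk.2⟩)
    have h2 := hy'.1 ⟨⟨k, hk.2⟩, (hPm _).2 hk, rfl⟩
    rw [← map_mul, ← map_inv, ← map_mul] at h2
    exact (hPm _).1 (hPπ _ h2)

/-- simplicity -/
theorem simple_K {N : Subgroup G} (hNK : N ≤ K) (hn : ∀ k ∈ K, ∀ x ∈ N, k * x * k⁻¹ ∈ N) :
    N ≤ o2 K ∨ ∀ k ∈ K, ∃ x ∈ N, x⁻¹ * k ∈ o2 K := by
  have := c.good.simple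
  set π := QuotientGroup.mk' (pCore 2 ↥K) with hπ
  have hπs : Function.Surjective π := QuotientGroup.mk'_surjective _
  have hN : (N.subgroupOf K).Normal := ⟨fun x hx k => mem_subgroupOf.2 (hn k k.2 x (mem_subgroupOf.1 hx))⟩
  have hN' : ((N.subgroupOf K).map π).Normal := hN.map π hπs
  rcases hN'.eq_bot_or_eq_top with h | h
  · left
    intro x hx
    have h1 : π ⟨x, hNK hx⟩ ∈ (N.subgroupOf K).map π := ⟨_, mem_subgroupOf.2 hx, rfl⟩
    rw [h, mem_bot] at h1
    exact (c.mem_pCore (hNK hx)).1 ((QuotientGroup.eq_one_iff _).1 h1)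
  · right
    intro k hk
    have h1 : π ⟨k, hk⟩ ∈ (N.subgroupOf K).map π := by rw [h]; trivial
    obtain ⟨x, hx, hxk⟩ := h1
    have h2 : x⁻¹ * ⟨k, hk⟩ ∈ pCore 2 ↥K := QuotientGroup.eq.1 hxk
    exact ⟨x, mem_subgroupOf.1 hx, (c.mem_pCore (x⁻¹ * ⟨k, hk⟩).2).1 h2⟩

theorem K_ne : ¬ K ≤ o2 K := by
  intro h
  have hp : Fact (Nat.Prime 2) := ⟨Nat.prime_two⟩
  have := c.good.simple
  have h1 : Subsingleton (↥K ⧸ pCore 2 ↥K) := by
    refine ⟨fun x y => ?_⟩
    obtain ⟨x, rfl⟩ := QuotientGroup.mk_surjective x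
    obtain ⟨y, rfl⟩ := QuotientGroup.mk_surjective y
    rw [QuotientGroup.eq]
    exact (c.mem_pCore (x⁻¹ * y).2).2 (h (x⁻¹ * y).2)
  exact not_subsingleton (↥K ⧸ pCore 2 ↥K) h1

theorem K_not_two : ¬ IsPGroup 2 K := by
  intro h
  exact c.K_ne (le_o2 h le_rfl le_normalizer)

/-- `K ≤ N(P)` for a 2-subgroup `P` implies that `P ∩ K` is in `O₂(K)` -/
theorem inf_le_o2 {P : Subgroup G} (hP : IsPGroup 2 P) (hn : K ≤ normalizer (P : Set G)) :
    P ⊓ K ≤ o2 K := by
  refine le_o2 (hP.to_le inf_le_left) inf_le_right fun x hx => mem_norm_of ?_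
  rintro y ⟨hy, hyK⟩
  exact ⟨conj_mem_of_norm (hn hx) hy, K.mul_mem (K.mul_mem hx hyK) (K.inv_mem hx)⟩

/-- in the case `Z₃`, `T ∩ K = O₂(K)` and there is nothing between `O₂(K)` and `K` -/
theorem three_K (h3 : Nat.card (↥K ⧸ pCore 2 ↥K) = 3) {Y : Subgroup G} (hTY : o2 K ≤ Y) (hYK : Y ≤ K)
    (hne : Y ≠ K) : Y = o2 K := by
  have h4 : (pCore 2 ↥K).index = 3 := h3
  have h5 : (o2 K).relIndex K = 3 := by
    rw [← h4, relIndex]
    congr 1
    ext x
    rw [mem_subgroupOf]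
    exact (c.mem_pCore x.2).symm
  have h6 := Subgroup.relIndex_mul_relIndex (o2 K) Y K hTY hYK
  rw [h5] at h6
  have h7 : Y.relIndex K ∣ 3 := ⟨_, by rw [mul_comm]; exact h6.symm⟩
  rcases (Nat.dvd_prime Nat.prime_three).1 h7 with h8 | h8
  · exact absurd (le_antisymm hYK (relIndex_eq_one.1 h8)) hne
  · rw [h8] at h6
    have h9 : (o2 K).relIndex Y = 1 := by omega
    exact le_antisymm (relIndex_eq_one.1 h9) hTY

theorem sylK_three (h3 : Nat.card (↥K ⧸ pCore 2 ↥K) = 3) : T ⊓ K = o2 K := by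
  apply c.three_K h3 c.OT inf_le_right
  intro h
  apply c.K_not_two
  rw [← h]
  exact c.two.to_le inf_le_left

theorem even_not (h2 : 2 ∣ Nat.card (↥K ⧸ pCore 2 ↥K)) : ¬ T ⊓ K ≤ o2 K := by
  intro h
  have h1 : T ⊓ K = o2 K := le_antisymm h c.OT
  have h3 := syl_not_dvd c.sylK
  apply h3
  rw [h1]
  have h4 : (o2 K).relIndex K = Nat.card (↥K ⧸ pCore 2 ↥K) := by
    rw [← Subgroup.index_eq_card, relIndex]
    congr 1
    ext x
    rw [mem_subgroupOf]
    exact (c.mem_pCore x.2).symm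
  rw [h4]
  exact h2

/-- **`K T` is a minimal parabolic.** -/
theorem minPar (hne : T ≠ Q) : IsMinPar T (K ⊔ T) where
  le := le_sup_right
  not_le := by
    intro h
    apply hne
    have h1 : T ≤ o2 (K ⊔ T) := le_o2 c.two le_sup_right h
    rw [c.o2_eq] at h1
    exact le_antisymm h1 c.QT
  exists_max := by
    have key : ∀ X : Subgroup G, T ≤ X → X < K ⊔ T → X ⊓ K ≠ K := by
      intro X hTX hX he
      exact hX.not_ge (sup_le (inf_eq_right.1 he) hTX)
    have dec : ∀ X : Subgroup G, T ≤ X → X < K ⊔ T → ∀ N : Subgroup G, X ⊓ K ≤ N → T ≤ N → X ≤ N := by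
      intro X hTX hX N h1 h2 x hx
      obtain ⟨k, hk, t, ht, rfl⟩ := c.exists_mul (hX.le hx)
      have h3 : k ∈ X := by
        have := X.mul_mem hx (X.inv_mem (hTX ht))
        rwa [mul_inv_cancel_right] at this
      exact N.mul_mem (h1 ⟨h3, hk⟩) (h2 ht)
    rcases c.good.dich with h3 | ⟨h2, -⟩
    · refine ⟨T, lt_of_le_of_ne le_sup_right fun h => ?_, fun X hTX hX => ?_⟩
      · apply c.K_not_two
        exact c.two.to_le (by rw [h]; exact le_sup_left)
      · refine dec X hTX hX T ?_ le_rfl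
        rw [c.three_K h3 (le_inf (c.OQ.trans (c.QT.trans hTX)) (o2_le K)) inf_le_right (key X hTX hX)]
        exact c.OQ.trans c.QT
    · refine ⟨(K ⊔ T) ⊓ normalizer ((T ⊓ K : Subgroup G) : Set G), ?_, fun X hTX hX => ?_⟩
      · refine lt_of_le_of_ne inf_le_left fun h => ?_
        apply c.even_not h2
        have h3 : K ≤ normalizer ((T ⊓ K : Subgroup G) : Set G) := by
          have := inf_eq_left.1 h
          exact le_sup_left.trans this
        have h4 := c.inf_le_o2 (c.two.to_le inf_le_left) h3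
        rwa [inf_assoc, inf_idem] at h4
      · refine le_inf hX.le (dec X hTX hX _ ?_ ?_)
        · exact c.max_K (inf_le_inf_right _ hTX) inf_le_right (key X hTX hX)
        · intro t ht
          refine mem_norm_of fun k hk => ?_
          exact ⟨T.mul_mem (T.mul_mem ht hk.1) (T.inv_mem ht), c.MK (c.TM ht) hk.2⟩

theorem ne_bot : T ≠ ⊥ := fun h => c.Q1 (by rw [eq_bot_iff, ← h]; exact c.QT)

/-- The configuration for the pushing up theorems. -/
theorem cf (hn : ¬ normalizer (T : Set G) ≤ M) : Cfsg.Agent.PushGen.Cf T (K ⊔ T) where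
  syl := c.sylH
  mp := c.minPar fun h => hn (c.norm_T_of_eq h)
  sc := by
    rw [c.o2_eq]
    exact inf_le_right.trans c.cQ
  ne := c.ne_bot
  char := by
    intro R hRT h1 h2
    by_contra hR
    exact hn (h1.trans (c.loc R (c.two.to_le hRT) hR (le_sup_left.trans h2) (le_sup_right.trans h2)))

end Ctx

end Cfsg.Agent.H282.PU
end

-- part: H282/PU/Choice
section
/-!
# S3090: the hypotheses give `Ctx`; the choice of `T`, `s`, `S`
-/

set_option autoImplicit false
set_option linter.unusedSectionVars false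

namespace Cfsg.Agent.H282.PU

open Subgroup Cfsg Cfsg.Agent.PLocal.ThompsonJ Cfsg.Agent.ZN.ChoiceBase
open Cfsg.Agent.ZN (o2 zl zj jj bau zc)
open Cfsg.Agent.ZN.ChoiceSit
open Cfsg.Agent.Omega.SQ1.FFOne (mem_norm_of conj_mem_of_norm)
open Cfsg.Agent.MinSimple.VModule (oddGen mem_oddGen oddGen_le le_normalizer_oddGen)
open Cfsg.Agent.MinSimple.MinParabolic (IsMinPar)
open Cfsg.Agent.MinSimple.Choice97 (exists_normalizing)
open scoped Pointwise

universe u

/-- a group of order 6 is not generated by its elements of odd order -/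
theorem not_six {X : Type*} [Group X] (h6 : Nat.card X = 6)
    (hg : closure {x : X | Odd (orderOf x)} = ⊤) : False := by
  have hf : Finite X := Nat.finite_of_card_ne_zero (by omega)
  have hp : Fact (Nat.Prime 3) := ⟨Nat.prime_three⟩
  obtain ⟨y, hy⟩ := exists_prime_orderOf_dvd_card' (G := X) 3 (by rw [h6]; norm_num)
  have h3 : Nat.card (zpowers y) = 3 := by rw [Nat.card_zpowers, hy]
  have h2 : (zpowers y).index = 2 := by
    have := (zpowers y).card_mul_index
    rw [h3, h6] at this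
    omega
  have hle : closure {x : X | Odd (orderOf x)} ≤ zpowers y := by
    rw [closure_le]
    intro x hx
    have h4 : x ^ 2 ∈ zpowers y := Subgroup.sq_mem_of_index_two h2 x
    have h5 : Nat.Coprime 2 (orderOf x) := Nat.coprime_two_left.2 hx
    obtain ⟨m, hm⟩ := exists_pow_eq_self_of_coprime h5
    rw [← hm]
    exact pow_mem h4 m
  rw [hg, top_le_iff] at hle
  rw [hle, index_top] at h2
  omega

variable {G : Type u} [Group G] [Finite G]

theorem gen_oddGen (H : Subgroup G) : oddGen (oddGen H) = oddGen H := by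
  apply le_antisymm (oddGen_le _)
  conv_lhs => rw [Cfsg.Agent.MinSimple.VModule.oddGen_def]
  rw [closure_le]
  rintro x ⟨hx, ho⟩
  exact mem_oddGen (mem_oddGen hx ho) ho

theorem good_of {K : Subgroup G} (hK : oddGen K = K)
    (h : Nonempty (↥K ⧸ pCore 2 ↥K ≃* Multiplicative (ZMod 3)) ∨
      ∃ n : ℕ, 1 ≤ n ∧ Nonempty (↥K ⧸ pCore 2 ↥K ≃*
        Matrix.SpecialLinearGroup (Fin 2) (GaloisField 2 n))) : Good (↥K ⧸ pCore 2 ↥K) := by
  rcases h with ⟨⟨e⟩⟩ | ⟨n, hn, ⟨e⟩⟩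
  · apply good_three
    rw [Nat.card_congr e.toEquiv]
    simp
  · have hcF : Nat.card (GaloisField 2 n) = 2 ^ n := GaloisField.card 2 n (by omega)
    have hfin : Finite (GaloisField 2 n) := Nat.finite_of_card_ne_zero (by rw [hcF]; positivity)
    rcases Nat.lt_or_ge n 2 with h2 | h2
    · exfalso
      obtain rfl : n = 1 := by omega
      refine not_six (X := ↥K ⧸ pCore 2 ↥K) ?_ ?_
      · rw [Nat.card_congr e.toEquiv]
        classical
        have hf : Fintype (GaloisField 2 1) := Fintype.ofFinite _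
        rw [Cfsg.Agent.ClassicalGeometry.PSL2Basic.card_SL2, ← Nat.card_eq_fintype_card, hcF]
        norm_num
      · rw [eq_top_iff]
        intro x _
        obtain ⟨x, rfl⟩ := QuotientGroup.mk_surjective x
        have key : ∀ y : G, y ∈ K → ∀ hy : y ∈ K, (QuotientGroup.mk (⟨y, hy⟩ : K) : ↥K ⧸ pCore 2 ↥K) ∈
            closure {x : ↥K ⧸ pCore 2 ↥K | Odd (orderOf x)} := by
          intro y hy0
          rw [← hK, Cfsg.Agent.MinSimple.VModule.oddGen_def] at hy0
          induction hy0 using closure_induction with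
          | mem z hz =>
            intro hy
            apply Subgroup.subset_closure
            have h1 : orderOf (QuotientGroup.mk (⟨z, hy⟩ : K) : ↥K ⧸ pCore 2 ↥K) ∣ orderOf z := by
              have := orderOf_map_dvd (QuotientGroup.mk' (pCore 2 ↥K)) (⟨z, hy⟩ : K)
              rwa [Subgroup.orderOf_mk] at this
            exact Odd.of_dvd_nat hz.2 h1
          | one =>
            intro hy
            have : (QuotientGroup.mk (⟨1, hy⟩ : K) : ↥K ⧸ pCore 2 ↥K) = 1 := rfl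
            rw [this]; exact one_mem _
          | mul a b ha hb iha ihb =>
            intro hy
            have ha' : a ∈ K := by rw [← hK, Cfsg.Agent.MinSimple.VModule.oddGen_def]; exact ha
            have hb' : b ∈ K := by rw [← hK, Cfsg.Agent.MinSimple.VModule.oddGen_def]; exact hb
            exact mul_mem (iha ha') (ihb hb')
          | inv a ha iha =>
            intro hy
            have ha' : a ∈ K := by rw [← hK, Cfsg.Agent.MinSimple.VModule.oddGen_def]; exact ha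
            exact inv_mem (iha ha')
        exact key x x.2 x.2
    · apply Good.congr e
      apply good_sl
      rw [hcF]
      calc 4 = 2 ^ 2 := by norm_num
        _ ≤ 2 ^ n := Nat.pow_le_pow_right (by norm_num) h2

/-- a Sylow subgroup of `H` meets a normal subgroup `K` in a Sylow subgroup -/
theorem syl_inf {H K T : Subgroup G} (hT : Syl T H) (hKH : K ≤ H) (hn : H ≤ normalizer (K : Set G)) :
    Syl (T ⊓ K) K := by
  refine ⟨inf_le_right, hT.2.1.to_le inf_le_left, fun P hP hP2 hTP => ?_⟩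
  obtain ⟨S, hS, hPS⟩ := exists_syl hP2 (hP.trans hKH)
  obtain ⟨g, hg, hgS⟩ := syl_conj hS hT
  have h1 : cj g P ≤ T ⊓ K := by
    refine le_inf (by rw [← hgS]; exact cj_mono g hPS) ?_
    rintro _ ⟨x, hx, rfl⟩
    exact conj_mem_of_norm (hn hg) (hP hx)
  have h2 : Nat.card P ≤ Nat.card ↥(T ⊓ K) := by
    rw [← card_cj g P]; exact Subgroup.card_le_of_le h1
  exact (Subgroup.eq_of_le_of_card_ge hTP h2).symm

/-- the hypotheses of S3090 give `Ctx` -/
theorem Ctx.of_hyp (hG : IsCharacteristicTwoType G) (H T : Subgroup G) (hT : Syl T H)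
    (hstar : Nonempty (↥(oddGen H) ⧸ pCore 2 ↥(oddGen H) ≃* Multiplicative (ZMod 3)) ∨
      ∃ n : ℕ, 1 ≤ n ∧ Nonempty (↥(oddGen H) ⧸ pCore 2 ↥(oddGen H) ≃*
        Matrix.SpecialLinearGroup (Fin 2) (GaloisField 2 n)))
    (hsyl : ∀ S : Subgroup G, IsPGroup 2 S → o2 H ≤ S → S ≤ normalizer (oddGen H : Set G) →
      (∀ s ∈ S, ∀ k ∈ oddGen H, s * k * s⁻¹ * k⁻¹ ∈ o2 (oddGen H)) → S = o2 H)
    (huniq : maxTwoLocalsContaining H = {normalizer (oddGen H : Set G)}) :
    Ctx (oddGen H) (normalizer (oddGen H : Set G)) (o2 H) T := by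
  set K := oddGen H with hK
  set M := normalizer (K : Set G) with hM
  have hKH : K ≤ H := oddGen_le H
  have hHM : H ≤ M := le_normalizer_oddGen H
  have hOQ : o2 K ≤ o2 H := by
    refine le_o2 (isPGroup_o2 K) ((o2_le K).trans hKH) (hHM.trans ?_)
    exact normalizer_le_of_cj (F := fun K => o2 K) pCore_cj K
  have htr : ∀ q ∈ o2 H, ∀ k ∈ K, q * k * q⁻¹ * k⁻¹ ∈ o2 K := by
    intro q hq k hk
    have h1 : o2 H ⊓ K ≤ o2 K := by
      refine le_o2 ((isPGroup_o2 H).to_le inf_le_left) inf_le_right fun x hx => mem_norm_of ?_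
      rintro y ⟨hy, hyK⟩
      exact ⟨conj_mem_of_norm (le_normalizer_o2 H (hKH hx)) hy,
        K.mul_mem (K.mul_mem hx hyK) (K.inv_mem hx)⟩
    apply h1
    refine ⟨?_, K.mul_mem (conj_mem_of_norm (hHM (o2_le H hq)) hk) (K.inv_mem hk)⟩
    have h2 := mul_mem hq (conj_mem_of_norm (le_normalizer_o2 H (hKH hk)) (inv_mem hq))
    have e : q * (k * q⁻¹ * k⁻¹) = q * k * q⁻¹ * k⁻¹ := by group
    rwa [e] at h2
  have hMmem : M ∈ maxTwoLocalsContaining H := by rw [huniq]; exact rfl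
  obtain ⟨hMmax, -⟩ := hMmem
  obtain ⟨R₁, hR2, hR1, hMR⟩ := id hMmax.1
  have hRo : R₁ ≤ o2 M := by
    refine le_o2 hR2 ?_ ?_
    · rw [hMR]; exact le_normalizer
    · rw [hMR]
  have hoM : o2 M ≤ o2 H := by
    have hp : Fact (Nat.Prime 2) := ⟨Nat.prime_two⟩
    have h1 : IsPGroup 2 (o2 H ⊔ o2 M : Subgroup G) :=
      IsPGroup.to_sup_of_normal_right' (isPGroup_o2 H) (isPGroup_o2 M)
        ((o2_le H).trans (hHM.trans (le_normalizer_o2 M)))
    have htrM : ∀ q ∈ o2 M, ∀ k ∈ K, q * k * q⁻¹ * k⁻¹ ∈ o2 K := by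
      intro q hq k hk
      have hKM : K ≤ M := le_normalizer
      have h1 : o2 M ⊓ K ≤ o2 K := by
        refine le_o2 ((isPGroup_o2 M).to_le inf_le_left) inf_le_right fun x hx => mem_norm_of ?_
        rintro y ⟨hy, hyK⟩
        exact ⟨conj_mem_of_norm (le_normalizer_o2 M (hKM hx)) hy,
          K.mul_mem (K.mul_mem hx hyK) (K.inv_mem hx)⟩
      apply h1
      refine ⟨?_, K.mul_mem (conj_mem_of_norm (o2_le M hq) hk) (K.inv_mem hk)⟩
      have h2 := mul_mem hq (conj_mem_of_norm (le_normalizer_o2 M (hKM hk)) (inv_mem hq))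
      have e : q * (k * q⁻¹ * k⁻¹) = q * k * q⁻¹ * k⁻¹ := by group
      rwa [e] at h2
    have h2 : (o2 H ⊔ o2 M : Subgroup G) = o2 H := by
      apply hsyl _ h1 le_sup_left (sup_le ((o2_le H).trans hHM) (o2_le M))
      -- trivial action
      let C : Subgroup G := {
        carrier := {x | x ∈ M ∧ ∀ k ∈ K, x * k * x⁻¹ * k⁻¹ ∈ o2 K}
        one_mem' := ⟨M.one_mem, fun k _ => by simp [one_mem]⟩
        mul_mem' := by
          rintro x y ⟨hx, hx'⟩ ⟨hy, hy'⟩
          refine ⟨M.mul_mem hx hy, fun k hk => ?_⟩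
          have hMo : M ≤ normalizer ((o2 K : Subgroup G) : Set G) :=
            normalizer_le_of_cj (F := fun K => o2 K) pCore_cj K
          have h1 := mul_mem (conj_mem_of_norm (hMo hx) (hy' k hk)) (hx' k hk)
          have e : x * (y * k * y⁻¹ * k⁻¹) * x⁻¹ * (x * k * x⁻¹ * k⁻¹) =
            x * y * k * (x * y)⁻¹ * k⁻¹ := by group
          rwa [e] at h1
        inv_mem' := by
          rintro x ⟨hx, hx'⟩
          refine ⟨M.inv_mem hx, fun k hk => ?_⟩
          have hMo : M ≤ normalizer ((o2 K : Subgroup G) : Set G) :=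
            normalizer_le_of_cj (F := fun K => o2 K) pCore_cj K
          have h1 := conj_mem_of_norm (hMo (M.inv_mem hx)) (inv_mem (hx' k hk))
          have e : x⁻¹ * (x * k * x⁻¹ * k⁻¹)⁻¹ * x⁻¹⁻¹ = x⁻¹ * k * x⁻¹⁻¹ * k⁻¹ := by group
          rwa [e] at h1 }
      have h3 : (o2 H ⊔ o2 M : Subgroup G) ≤ C :=
        sup_le (fun q hq => ⟨hHM (o2_le H hq), htr q hq⟩) (fun q hq => ⟨o2_le M hq, htrM q hq⟩)
      exact fun s hs => (h3 hs).2
    rw [← h2]
    exact le_sup_right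
  refine
    { c2 := hG
      eM := rfl
      gen := gen_oddGen H
      good := good_of (gen_oddGen H) hstar
      two := hT.2.1
      QT := o2_le_syl hT
      TM := hT.1.trans hHM
      KQ := hKH.trans (le_normalizer_o2 H)
      tr := htr
      syl := hsyl
      OQ := hOQ
      sylK := syl_inf hT hKH hHM
      loc := ?_
      cQ := ?_
      Q1 := ?_ }
  · intro R hR hR1 hKR hTR
    have hHR : H ≤ normalizer (R : Set G) := by
      rw [← Cfsg.Agent.PushGen.oddGen_sup_syl hT]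
      exact sup_le hKR hTR
    -- a maximal 2-local over `N(R)`
    obtain ⟨N, hN, hNR, hmax⟩ : ∃ N : Subgroup G, IsTwoLocal N ∧ normalizer (R : Set G) ≤ N ∧
        ∀ N' : Subgroup G, IsTwoLocal N' → N ≤ N' → N' = N := by
      obtain ⟨N, ⟨hN1, hN2⟩, hN3⟩ := Set.Finite.exists_maximal
        (s := {N : Subgroup G | IsTwoLocal N ∧ normalizer (R : Set G) ≤ N}) (Set.toFinite _)
        ⟨_, ⟨R, hR, hR1, rfl⟩, le_rfl⟩
      exact ⟨N, hN1, hN2, fun N' hN' h => le_antisymm (hN3 ⟨hN', hN2.trans h⟩ h) h⟩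
    have h1 : N ∈ maxTwoLocalsContaining H := ⟨⟨hN, hmax⟩, hHR.trans hNR⟩
    rw [huniq] at h1
    rw [← show N = M from h1]
    exact hNR
  · refine (centralizer_le (fun x hx => hoM hx)).trans (fun x hx => hoM ?_)
    refine self_cent hG hMmax.1 ⟨?_, hx⟩
    rw [hMR]
    exact centralizer_le_normalizer _ (centralizer_le (fun y hy => hRo hy) hx)
  · intro h
    apply hR1
    rw [eq_bot_iff, ← h]
    exact hRo.trans hoM

/-- The configuration: `s ∈ S ∖ M` normalises `T = S ∩ M`, `s² ∈ T`. -/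
structure Conf (K M Q T : Subgroup G) (s : G) (S : Sylow 2 G) : Prop extends Ctx K M Q T where
  sS : s ∈ S
  sN : s ∈ normalizer (T : Set G)
  sq : s * s ∈ T
  sM : s ∉ M
  TS : T ≤ S
  SM : (S : Subgroup G) ⊓ M ≤ T

theorem even_of_c2 (hG : IsCharacteristicTwoType G) : IsOfEvenCharacteristic G := by
  rintro N ⟨R, hR, hR1, rfl⟩ _
  exact hG.2 R hR hR1

/-- **The choice.** -/
theorem Ctx.exists_conf {K M Q T₀ : Subgroup G} (c₀ : Ctx K M Q T₀)
    (hn₀ : ¬ normalizer (T₀ : Set G) ≤ M) : ∃ (T : Subgroup G) (s : G) (S : Sylow 2 G), Conf K M Q T s S := by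
  classical
  have hp : Fact (Nat.Prime 2) := ⟨Nat.prime_two⟩
  -- the choice of `T`
  obtain ⟨T, ⟨hTT, hT2, hTM, hTn⟩, hTmax⟩ := Set.Finite.exists_maximal
    (s := {T : Subgroup G | T₀ ≤ T ∧ IsPGroup 2 T ∧ T ≤ M ∧ ¬ normalizer (T : Set G) ≤ M})
    (Set.toFinite _) ⟨T₀, le_rfl, c₀.two, c₀.TM, hn₀⟩
  have c : Ctx K M Q T := c₀.mono hTT hT2 hTM
  have hbig : ∀ T' : Subgroup G, T < T' → IsPGroup 2 T' → T' ≤ M → normalizer (T' : Set G) ≤ M := by
    intro T' h1 h2 h3
    by_contra h4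
    exact h1.not_ge (hTmax ⟨hTT.trans h1.le, h2, h3, h4⟩ h1.le)
  -- 2-groups over `T` not in `M` meet `M` in `T`
  have hcap : ∀ P : Subgroup G, IsPGroup 2 P → T ≤ P → ¬ P ≤ M → P ⊓ M ≤ T := by
    intro P hP hTP hPM
    by_contra hlt
    have h1 : T < P ⊓ M := lt_of_le_of_ne (le_inf hTP hTM) fun h => hlt (by rw [← h])
    have h2 := hbig _ h1 (hP.to_le inf_le_left) inf_le_right
    have h3 : P ⊓ M < P := lt_of_le_of_ne inf_le_left fun h => hPM (inf_eq_left.1 h)
    obtain ⟨p, hpP, hpN, hpT, -⟩ := exists_normalizing hP h3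
    exact hpT ⟨hpP, h2 hpN⟩
  by_cases hcase : ∃ P : Subgroup G, IsPGroup 2 P ∧ T ≤ P ∧ P ≤ normalizer (T : Set G) ∧ ¬ P ≤ M
  · obtain ⟨P, hP2, hTP, hPN, hPM⟩ := hcase
    have hTltP : T < P := lt_of_le_of_ne hTP fun h => hPM (by rw [← h]; exact hTM)
    obtain ⟨s, hsP, hsN, hsT, hss⟩ := exists_normalizing hP2 hTltP
    obtain ⟨S, hPS⟩ := hP2.exists_le_sylow
    have hTS : T ≤ S := hTP.trans hPS
    refine ⟨T, s, S, { c with
      sS := hPS hsP, sN := hsN, sq := hss, sM := ?_, TS := hTS, SM := ?_ }⟩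
    · exact fun h => hsT (hcap P hP2 hTP hPM ⟨hsP, h⟩)
    · exact hcap S S.isPGroup' hTS fun h => hPM (hPS.trans h)
  · exfalso
    push Not at hcase
    obtain ⟨P₂, hP₂, hTP₂⟩ := exists_syl hT2 (le_normalizer : T ≤ normalizer (T : Set G))
    have hP₂M : P₂ ≤ M := hcase P₂ hP₂.2.1 hTP₂ hP₂.1
    -- `T = P₂`
    have hTP : T = P₂ := by
      by_contra hne
      have h1 := hbig P₂ (lt_of_le_of_ne hTP₂ hne) hP₂.2.1 hP₂M
      apply hTn
      intro x hx
      have h2 : cj x P₂ ≤ normalizer (T : Set G) := by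
        rintro _ ⟨y, hy, rfl⟩
        exact mul_mem (mul_mem hx (hP₂.1 hy)) (inv_mem hx)
      have h3 : T ≤ cj x P₂ := by
        rw [← cj_eq_of_mem_normalizer hx]
        exact cj_mono x hTP₂
      have h4 : cj x P₂ ≤ M := hcase _ (isPGroup_cj x hP₂.2.1) h3 h2
      have s1 : Syl P₂ (normalizer (T : Set G) ⊓ M) :=
        ⟨le_inf hP₂.1 hP₂M, hP₂.2.1, fun P hP hP2 h => hP₂.2.2 P (hP.trans inf_le_left) hP2 h⟩
      have s2 : Syl (cj x P₂) (normalizer (T : Set G) ⊓ M) := by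
        refine ⟨le_inf h2 h4, isPGroup_cj x hP₂.2.1, fun P hP hP2 h => ?_⟩
        have h5 : Nat.card P ≤ Nat.card (cj x P₂) := by
          obtain ⟨R, hR, hPR⟩ := exists_syl hP2 (hP.trans inf_le_left)
          obtain ⟨g, -, hg⟩ := syl_conj hR hP₂
          rw [card_cj]
          calc Nat.card P ≤ Nat.card R := Subgroup.card_le_of_le hPR
            _ = Nat.card P₂ := by rw [← hg, card_cj]
        exact (Subgroup.eq_of_le_of_card_ge h h5).symm
      obtain ⟨y, hy, hyx⟩ := syl_conj s2 s1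
      have h6 : y * x ∈ normalizer (P₂ : Set G) := by
        rw [mem_normalizer_iff_cj, ← cj_cj]
        exact hyx
      have h7 := M.mul_mem (M.inv_mem hy.2) (h1 h6)
      rwa [inv_mul_cancel_left] at h7
    -- `T` is a Sylow 2-subgroup of `G`
    obtain ⟨S, hTS⟩ := hT2.exists_le_sylow
    have hSeq : (S : Subgroup G) = T := by
      by_contra hne
      obtain ⟨p, hpS, hpN, hpT, -⟩ := exists_normalizing S.isPGroup' (lt_of_le_of_ne hTS (Ne.symm hne))
      apply hpT
      have h1 := hP₂.2.2 (T ⊔ zpowers p) (sup_le le_normalizer (zpowers_le.2 hpN))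
        (S.isPGroup'.to_le (sup_le hTS (zpowers_le.2 hpS))) (by rw [← hTP]; exact le_sup_left)
      rw [← hTP] at h1
      rw [← h1]
      exact (le_sup_right : zpowers p ≤ T ⊔ zpowers p) (mem_zpowers p)
    have hne : T ≠ Q := fun h => hTn (c.norm_T_of_eq h)
    obtain ⟨R₀, hR1, hRT, hR⟩ := Cfsg.Agent.PushGen.main (even_of_c2 c.c2) S
      (M₀ := normalizer (T : Set G)) (H := K ⊔ T) (R := T) (by rw [hSeq]; exact le_normalizer)
      (by rw [hSeq]; exact le_sup_right) (by rw [c.o2_eq]; exact c.Q1)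
      (by rw [hSeq]; exact (c.minPar hne).exists_max) c.ne_bot (by rw [hSeq])
      (by rw [c.oddGen_eq]; exact c.sylH) le_rfl
    apply hTn
    refine (le_sup_left.trans hR).trans (c.loc R₀ (hT2.to_le hRT) hR1 ?_ ?_)
    · exact (le_sup_left.trans le_sup_right).trans hR
    · exact (le_sup_right.trans le_sup_right).trans hR

end Cfsg.Agent.H282.PU
end

-- part: H282/PU/One
section
/-!
# S3090: the FF theorem for the configuration, one natural summand
-/

set_option autoImplicit false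
set_option linter.unusedSectionVars false
set_option linter.unusedVariables false

namespace Cfsg.Agent.H282.PU

open Subgroup Cfsg Cfsg.Agent.PLocal.ThompsonJ Cfsg.Agent.ZN.ChoiceBase
open Cfsg.Agent.ZN (o2 zl zj jj bau zc)
open Cfsg.Agent.ZN.ChoiceSit
open Cfsg.Agent.Omega.NatPair Cfsg.Agent.Lib.SL2Mat
open Cfsg.Agent.Omega.SQ1.FFOne Cfsg.Agent.Omega.SQ1.VOf
open Cfsg.Agent.Omega.SQ1.MatchOne (Sit)
open Cfsg.Agent.Omega.SQ1.MatchL (LSit)
open Cfsg.Agent.Omega.FFThm
open Cfsg.Agent.Omega.SQ1.FFOf (off_of_AA cv_le cv_norm)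
open Cfsg.Agent.MinSimple.VModule (oddGen mem_oddGen oddGen_le le_normalizer_oddGen)
open Cfsg.Agent.MinSimple.MinParabolic (IsMinPar)
open scoped Pointwise

universe u

variable {G : Type u} [Group G] [Finite G]

/-- the FF output with one natural summand -/
noncomputable def ffOf {H T D : Subgroup G} {F : Type} [Field F] [Finite F] [CharP F 2] (hm : MinH H T)
    (hnle : ¬ jj T ≤ o2 H) (N : NatK F T H (zl T H) D 1) (hDV : D ≤ zl T H)
    (hDn : ∀ h ∈ H, ∀ v ∈ D, h * v * h⁻¹ ∈ D) : FF F H T (zl T H) D where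
  π g := N.e g 0
  map_mul := by
    intro v hv w hw
    rw [N.mul v hv w hw]; rfl
  V0V := hDV
  ker := by
    intro v hv
    rw [← N.ker v hv]
    constructor
    · intro h0
      funext i
      rw [Subsingleton.elim i 0, h0]
      rfl
    · intro h0
      rw [h0]
      rfl
  surj := by
    intro x
    obtain ⟨v, hv, hx⟩ := N.surj fun _ => x
    exact ⟨v, hv, by rw [hx]⟩
  Vn := zl_norm
  V0n := hDn
  lift := by
    intro A
    obtain ⟨g, hg, h1, h2⟩ := N.lift fun _ => A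
    exact ⟨g, hg, fun v hv => h1 v hv 0⟩
  norm := by
    intro g hg x hx A hA
    obtain ⟨B, hB⟩ := N.norm g hg x hx (fun _ => A) fun v hv i => by
      rw [Subsingleton.elim i 0]
      exact hA v hv
    exact ⟨B 0, fun v hv => hB v hv 0⟩
  off1 := by
    intro A hA a ha
    by_cases hne : A ≤ centralizer (zl T H : Set G)
    · refine ⟨0, fun v hv => ?_⟩
      have h1 := mem_centralizer_iff.1 (hne ha) v hv
      rw [← h1, mul_inv_cancel_right, up_zero, ap_one]
    · obtain ⟨I, hI, -⟩ := N.off A hA.2.1 (off_of_AA hm hA hne)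
      obtain ⟨b, -, hb⟩ := hI a ha
      exact ⟨b 0, fun v hv => hb.1 v hv 0⟩
  off2 := by
    intro A hA hnt x
    have hne : ¬ A ≤ centralizer (zl T H : Set G) := by
      intro hle
      apply hnt
      intro a ha v hv
      have h1 := mem_centralizer_iff.1 (hle ha) v hv
      rw [← h1, mul_inv_cancel_right]
    obtain ⟨I, hI, hI'⟩ := N.off A hA.2.1 (off_of_AA hm hA hne)
    have h0 : (0 : Fin 1) ∈ I := by
      by_contra h0
      apply hnt
      intro a ha v hv
      obtain ⟨b, hb, hab⟩ := hI a ha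
      have h1 : N.e (a * v * a⁻¹) 0 = ap (up (b 0)) (N.e v 0) := hab.1 v hv 0
      rw [hb 0 h0, up_zero, ap_one] at h1
      exact h1
    obtain ⟨a, ha, hab⟩ := hI' (fun _ => x) (fun i hi => absurd (by rwa [Subsingleton.elim i 0]) hi)
    exact ⟨a, ha, fun v hv => hab.1 v hv 0⟩
  VQ := Cfsg.Agent.Omega.SQ1.VOf.MinH.zl_le_o2 hm
  Vsq := Cfsg.Agent.Omega.SQ1.VOf.MinH.sq hm
  VcQ := Cfsg.Agent.Omega.SQ1.VOf.MinH.o2_cent hm
  nle := hnle

namespace Conf

variable {K M Q T : Subgroup G} {s : G} {S : Sylow 2 G} (c : Conf K M Q T s S)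

include c

theorem hn : ¬ normalizer (T : Set G) ≤ M := fun h => c.sM (h c.sN)

theorem cf : Cfsg.Agent.PushGen.Cf T (K ⊔ T) := c.toCtx.cf c.hn

theorem sT : s ∉ T := fun h => c.sM (c.TM h)

/-- no nontrivial subgroup of `T` is normalised by `K T` and `s` -/
theorem core (R : Subgroup G) (hRT : R ≤ T) (hH : ∀ x ∈ K ⊔ T, ∀ r ∈ R, x * r * x⁻¹ ∈ R)
    (hs : ∀ r ∈ R, s * r * s⁻¹ ∈ R) : R = ⊥ := by
  by_contra hne
  apply c.sM
  exact c.loc R (c.two.to_le hRT) hne (fun x hx => mem_norm_of (hH x ((le_sup_left : K ≤ K ⊔ T) hx)))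
    (fun x hx => mem_norm_of (hH x ((le_sup_right : T ≤ K ⊔ T) hx))) (mem_norm_of hs)

/-- a subgroup normalised by `K T` and a 2-group is normalised only by elements of `M` -/
theorem norm_le {R : Subgroup G} (hR : IsPGroup 2 R) (hne : R ≠ ⊥)
    (hH : K ⊔ T ≤ normalizer (R : Set G)) : normalizer (R : Set G) ≤ M :=
  c.loc R hR hne (le_sup_left.trans hH) (le_sup_right.trans hH)

/-- **The FF theorem.** -/
theorem ff : NoOver (zl T (K ⊔ T)) (K ⊔ T) ∧ Concl T (K ⊔ T) := by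
  have h := c.cf
  obtain ⟨A, hA, hoff⟩ := Cfsg.Agent.Omega.NO3b.FPB.SymIn.exists_off h.minH h.cent_sup_ne h.nle
  exact Cfsg.Agent.Omega.FFBr.ffthm G T (K ⊔ T) h.syl h.mp h.sc ⟨A, hA.2.1.trans h.syl.1, hoff⟩

theorem sit {V V1 V0 : Subgroup G} {q : ℕ} (h : Cfsg.Agent.Omega.SQ1.Bau.In (K ⊔ T) T (o2 (K ⊔ T)) V V1 V0 q) :
    Sit (K ⊔ T) T (o2 (K ⊔ T)) V V1 V0 q s where
  dd := h
  two := c.two
  sN := c.sN
  sq := c.sq
  core := c.core
  nc := by
    obtain ⟨L, k⟩ := h.exists_blk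
    have hTA : T ≤ T ⊔ zpowers s := le_sup_left
    have hAT : T ⊔ zpowers s ≤ normalizer (T : Set G) := sup_le le_normalizer (zpowers_le.2 c.sN)
    have idx : ∀ a ∈ T ⊔ zpowers s, ∀ b ∈ T ⊔ zpowers s, a ∉ T → b ∉ T → a⁻¹ * b ∈ T := by
      intro a ha b hb haT hbT
      have h1 := (Cfsg.Agent.Omega.SQ1.SitOf.mem_A c.sN c.sq ha).resolve_left haT
      have h2 := (Cfsg.Agent.Omega.SQ1.SitOf.mem_A c.sN c.sq hb).resolve_left hbT
      have h3 := mul_mem (inv_mem h1) h2
      have e : (s⁻¹ * a)⁻¹ * (s⁻¹ * b) = a⁻¹ * b := by group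
      rwa [e] at h3
    have hd := k.dat h hTA hAT idx (fun R hR hH hA =>
      c.core R hR hH (hA s (mem_sup_right (mem_zpowers s))))
    obtain ⟨t, ht, v, hv, u, hu, hne⟩ := hd.exists_noncommuting
    have htT : t ∉ T := by
      intro htT
      apply hne
      exact Cfsg.Agent.Omega.SQ1.Bau.elem_comm h.Y_elem v hv _ (h.Y_norm t (h.TH htT) u hu)
    have h1 := (Cfsg.Agent.Omega.SQ1.SitOf.mem_A c.sN c.sq ht).resolve_left htT
    refine ⟨v, hv, (s⁻¹ * t) * u * (s⁻¹ * t)⁻¹, h.Y_norm _ (h.TH h1) u hu, ?_⟩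
    have e : s * ((s⁻¹ * t) * u * (s⁻¹ * t)⁻¹) * s⁻¹ = t * u * t⁻¹ := by group
    rw [e]
    exact hne

theorem lsit {F : Type} [Field F] [Finite F] [CharP F 2] {V V0 : Subgroup G}
    (N : FF F (K ⊔ T) T V V0) : LSit N s where
  hm := c.cf.minH
  sit := c.sit (N.toIn c.cf.minH)

/-- `N_S(Y) = T` -/
theorem memT {F : Type} [Field F] [Finite F] [CharP F 2] {V V0 : Subgroup G}
    {N : FF F (K ⊔ T) T V V0} (h : LSit N s) :
    ∀ x ∈ (S : Subgroup G), (∀ a ∈ Cfsg.Agent.Omega.SQ1.Bau.In.Y T V, x * a * x⁻¹ ∈ Cfsg.Agent.Omega.SQ1.Bau.In.Y T V) →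
      x ∈ T := by
  intro x hx hn
  have hY2 : IsPGroup 2 (Cfsg.Agent.Omega.SQ1.Bau.In.Y T V) := c.two.to_le (h.sit.Y_le_B.trans (bau_le T))
  have hY0 : Cfsg.Agent.Omega.SQ1.Bau.In.Y T V ≠ ⊥ := by
    obtain ⟨v, hv, e⟩ := N.surj ![1, 0]
    intro h0
    have h1 : v ∈ Cfsg.Agent.Omega.SQ1.Bau.In.Y T V := Cfsg.Agent.Omega.SQ1.Bau.In.V_le_Y T V hv
    rw [h0, mem_bot] at h1
    subst h1
    rw [(N.ker 1 hv).2 (one_mem _)] at e
    have := congrFun e 0
    simp at this
  have hH : K ⊔ T ≤ normalizer (Cfsg.Agent.Omega.SQ1.Bau.In.Y T V : Set G) :=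
    fun g hg => mem_norm_of (h.sit.dd.Y_norm g hg)
  exact c.SM ⟨hx, c.norm_le hY2 hY0 hH (mem_norm_of hn)⟩

end Conf

end Cfsg.Agent.H282.PU
end
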